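import Cfsg.Agent.LThreeMBTr.Main
import Cfsg.Agent.LThreeMBTr.TensK
import Cfsg.Agent.LThreeMB.KPair
import Cfsg.Agent.BpSpor.MBigEleven

/-!
# A bound of the trace of an element of `C(z)` of the model of the Monster (helper300, for helper619)

`chi_le` : `|chi A| ≤ 24`; `card_le` : at most `2 fr (pi x)` elements `p` of the extraspecial group have
`α p ∈ {p, zc p}`; `abs_chr_data`, `abs_chr` : `|chr x| ≤ 300 + fr + 24 √fr`; `abs_chr_le` : the bound `6000` for `fr (pi x) = 2 ^ 12`.
-/

set_option autoImplicit false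

namespace Cfsg.Agent.H300.SB.ChrBound

open Cfsg Cfsg.Spor Cfsg.Agent.LeechMat.Core Cfsg.Agent.MonsterX.KSide Cfsg.Agent.MonsterX.KLift
open Cfsg.Agent.LThreeMBTr Cfsg.Agent.LThreeMB
open Cfsg.Agent.MonsterU.Lam2 Cfsg.Agent.MonsterU.TwoCls Cfsg.Agent.MonsterU.TwoQ
open Cfsg.Agent.SigZeroCo2.Lin (rep)
open Subgroup (centralizer mem_centralizer_singleton_iff)

theorem abs_diag (A : Co0) (p : GolayPt) : |rep A (Pi.single p 1) p| ≤ 1 := by
  have h := norm_rep A p
  generalize rep A (Pi.single p 1) = r at h ⊢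
  have h1 : r p * r p ≤ 1 := by
    rw [← h]
    exact Finset.single_le_sum (f := fun q => r q * r q) (fun q _ => mul_self_nonneg _) (Finset.mem_univ p)
  rw [← abs_mul_abs_self] at h1
  nlinarith [abs_nonneg (r p)]

theorem chi_le (A : Co0) : |chi A| ≤ 24 := by
  rw [chi_sum]
  refine (Finset.abs_sum_le_sum_abs _ _).trans ?_
  refine (Finset.sum_le_sum fun i _ => abs_diag A i).trans ?_
  have h2 : Fintype.card GolayPt = 24 := by decide
  rw [Finset.sum_const, Finset.card_univ, h2]
  norm_num

section gen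

variable {G V P W : Type*} [Group G] [AddCommGroup V] [Module ℚ V]
  [DistribMulAction G V] [SMulCommClass G ℚ V] [Group P] [AddCommGroup W] [Module ℚ W]
  {M : KS G V P W} {θ : leechLattice → P}

/-- the number of elements fixed up to the centre -/
theorem card_le (L : Lift M θ) [Fintype P] [DecidableEq P] {k : G} {A : Co0} {α : P ≃* P} {T : Module.End ℚ W}
    (hA : Acts M.Sh M.lam M.u M.X M.Θ M.ρ k A α T) :
    (Finset.univ.filter fun p => α p = p ∨ α p = M.zc * p).card ≤ 2 * fr (QuotientGroup.mk A : Co1) := by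
  classical
  let f : {p : P // α p = p ∨ α p = M.zc * p} → {v : L2 // (QuotientGroup.mk A : Co1) • v = v} := fun p =>
    ⟨clP L p, by
      rw [mk_smul, ← clP_act L hA]
      exact (clP_eq' L).2 p.2⟩
  have hfin : Finite {v : L2 // (QuotientGroup.mk A : Co1) • v = v} := by
    have : Finite L2 := Finite.of_surjective (clP L) (clP_surjective L)
    infer_instance
  have hft : Fintype {v : L2 // (QuotientGroup.mk A : Co1) • v = v} := Fintype.ofFinite _
  have h1 : Fintype.card {p : P // α p = p ∨ α p = M.zc * p} ≤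
      2 * Fintype.card {v : L2 // (QuotientGroup.mk A : Co1) • v = v} := by
    rw [← Finset.card_univ, ← Finset.card_univ (α := {v : L2 // (QuotientGroup.mk A : Co1) • v = v})]
    refine Finset.card_le_mul_card_image_of_maps_to (f := f) (fun _ _ => Finset.mem_univ _) 2 ?_
    intro v _
    by_cases hv : ∃ p, f p = v
    · obtain ⟨p, rfl⟩ := hv
      have h2 : Finset.image Subtype.val (Finset.univ.filter fun q => f q = f p) ⊆ {(p : P), M.zc * p} := by
        intro q hq
        obtain ⟨q, hq', rfl⟩ := Finset.mem_image.1 hq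
        have h0 : f q = f p := (Finset.mem_filter.1 hq').2
        have h3 : clP L (q : P) = clP L (p : P) := congrArg Subtype.val h0
        rw [Finset.mem_insert, Finset.mem_singleton]
        exact (clP_eq' L).1 h3
      rw [← Finset.card_image_of_injective _ Subtype.val_injective]
      exact (Finset.card_le_card h2).trans Finset.card_le_two
    · push Not at hv
      rw [Finset.filter_false_of_mem (fun q _ => hv q), Finset.card_empty]
      norm_num
  rw [Fintype.card_subtype] at h1
  unfold fr
  rw [Nat.card_eq_fintype_card]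
  exact h1

/-- **The bound of the trace.** -/
theorem abs_chr_data (L : Lift M θ) (H : Tens M) {k : G} {A : Co0} {α : P ≃* P} {T : Module.End ℚ W}
    (hA : Acts M.Sh M.lam M.u M.X M.Θ M.ρ k A α T) {n : ℕ} (hn : fr (QuotientGroup.mk A : Co1) ≤ n ^ 2) :
    |chr V k| ≤ 300 + n ^ 2 + 24 * n := by
  classical
  obtain ⟨hfin, J, _, _, b, hJ, hb⟩ := H
  have hfinP : Finite P := Nat.finite_of_card_ne_zero (by rw [L.card]; norm_num)
  have : Fintype P := Fintype.ofFinite P
  have hc := card_le L hA
  have hcn : ((Finset.univ.filter fun p => α p = p ∨ α p = M.zc * p).card : ℚ) ≤ 2 * (n : ℚ) ^ 2 := by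
    have : (Finset.univ.filter fun p => α p = p ∨ α p = M.zc * p).card ≤ 2 * n ^ 2 := by omega
    exact_mod_cast this
  rw [chr_eq M hb hA]
  -- the symmetric square
  have h1 : |(chi A ^ 2 + chi (A * A)) / 2| ≤ 300 := by
    have e1 := abs_le.1 (chi_le A)
    have e2 := abs_le.1 (chi_le (A * A))
    rw [abs_le]
    constructor <;> nlinarith [sq_nonneg (chi A)]
  -- the permutation part
  have h2 : |∑ x ∈ Finset.univ.filter (· ∈ M.Sh), 2⁻¹ * M.B (M.X (α x)) (M.X x)| ≤ (n : ℚ) ^ 2 := by
    refine (Finset.abs_sum_le_sum_abs _ _).trans ?_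
    have h3 : ∀ x ∈ Finset.univ.filter (· ∈ M.Sh), |2⁻¹ * M.B (M.X (α x)) (M.X x)| ≤
        if α x = x ∨ α x = M.zc * x then (2⁻¹ : ℚ) else 0 := by
      intro x hx
      have hx' : x ∈ M.Sh := (Finset.mem_filter.1 hx).2
      by_cases e1 : α x = x
      · rw [if_pos (Or.inl e1), e1, M.B_XX x hx', mul_one, abs_of_pos (by norm_num)]
      · by_cases e2 : α x = M.zc * x
        · rw [if_pos (Or.inr e2), e2, M.X_z x hx', map_neg, LinearMap.neg_apply, M.B_XX x hx', mul_neg, mul_one,
            abs_neg, abs_of_pos (by norm_num)]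
        · rw [if_neg (by tauto)]
          rw [M.B_comm, M.B_XX' x hx' _ (hA.act_sh x hx') e1 e2, mul_zero, abs_zero]
    refine (Finset.sum_le_sum h3).trans ?_
    rw [← Finset.sum_filter, Finset.sum_const, nsmul_eq_mul]
    have h4 : ((Finset.univ.filter (· ∈ M.Sh)).filter fun x => α x = x ∨ α x = M.zc * x).card ≤
        (Finset.univ.filter fun p => α p = p ∨ α p = M.zc * p).card := by
      apply Finset.card_le_card
      intro x hx
      rw [Finset.mem_filter] at hx ⊢
      exact ⟨Finset.mem_univ _, hx.2⟩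
    have h5 : (((Finset.univ.filter (· ∈ M.Sh)).filter fun x => α x = x ∨ α x = M.zc * x).card : ℚ) ≤
      ((Finset.univ.filter fun p => α p = p ∨ α p = M.zc * p).card : ℚ) := by exact_mod_cast h4
    linarith
  -- the tensor part
  have h6 : |LinearMap.trace ℚ W T| ≤ n := by
    have h7 := tr_sq M hb hJ L hA
    have h8 : ((Finset.univ.filter fun p => α p = p).card : ℚ) ≤
        (Finset.univ.filter fun p => α p = p ∨ α p = M.zc * p).card := by
      have : (Finset.univ.filter fun p => α p = p).card ≤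
          (Finset.univ.filter fun p => α p = p ∨ α p = M.zc * p).card := by
        apply Finset.card_le_card
        intro x hx
        rw [Finset.mem_filter] at hx ⊢
        exact ⟨hx.1, Or.inl hx.2⟩
      exact_mod_cast this
    have h9 : (0 : ℚ) ≤ (Finset.univ.filter fun p => α p = M.zc * p).card := by positivity
    have h10 : LinearMap.trace ℚ W T ^ 2 ≤ (n : ℚ) ^ 2 := by linarith
    exact abs_le_of_sq_le_sq h10 (by positivity)
  have h11 : |chi A * LinearMap.trace ℚ W T| ≤ 24 * n := by
    rw [abs_mul]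
    exact mul_le_mul (chi_le A) h6 (abs_nonneg _) (by norm_num)
  have h12 := abs_add_three ((chi A ^ 2 + chi (A * A)) / 2)
    (∑ x ∈ Finset.univ.filter (· ∈ M.Sh), 2⁻¹ * M.B (M.X (α x)) (M.X x)) (chi A * LinearMap.trace ℚ W T)
  linarith

/-- The bound for an element of `C(z)`. -/
theorem abs_chr (L : Lift M θ) (hc : KChart.Cent M) (H : Tens M) {x : centralizer ({M.z} : Set G)} {n : ℕ}
    (hfr : fr (KChart.pi hc x) ≤ n ^ 2) : |chr V (x : G)| ≤ 300 + n ^ 2 + 24 * n := by
  have hxK : (x : G) ∈ M.K := hc x (mem_centralizer_singleton_iff.1 x.2)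
  obtain ⟨A, α, T, hA⟩ := M.acts x hxK
  refine abs_chr_data L H hA (n := n) ?_
  rwa [← KChart.pi_eq hc hA.act_u]

end gen

open Cfsg.Agent.BpSpor.MBigModel

/-- **The bound of the trace of the elements of fixed rank 12.** -/
theorem abs_chr_le {x : centralizer ({zz} : Set MG)} (hfr : fr (pi x) = 2 ^ 12) :
    |chr Cfsg.Agent.MonsterX.Space.V (x : MG)| ≤ 6000 := by
  have h := abs_chr Cfsg.Agent.MonsterX.KDone.lft LThreeB.Row.cent TensK.tens (x := x) (n := 64) (by
    have h1 : fr (KChart.pi LThreeB.Row.cent x) = 2 ^ 12 := hfr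
    rw [h1]; norm_num)
  refine h.trans ?_
  norm_num

end Cfsg.Agent.H300.SB.ChrBound
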