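import Cfsg.Agent.H616.M23.Bt
import Cfsg.Agent.H715.Mon.Exact
import Cfsg.Agent.H849.ThreeNorm

/-!
# Values of the character of degree 196883 at elements of order 23 (helper300, for helper619)

`x` of order 3 in the model of the Monster, `π : C(x) → Fi24'` onto with kernel `⟨x⟩`, `χ` irreducible of degree 196883
with rational values, `s = (χ k + χ (k x) + χ (k x²)) / 3`, `π k = y`.

* `val23` : `s` is odd or negative if `y` has order 23 (`SThree.{0}` is `fun _ _ _ X hX hC => S3331.result X hX hC`).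
-/

set_option autoImplicit false

namespace Cfsg.Agent.H300.SB.Vals

open Subgroup Cfsg Cfsg.Agent.BpSpor.MBigModel Cfsg.Agent.Characters.Core Cfsg.Agent.H493.RatB
open Cfsg.Agent.H849.ThreeNorm (Data mem_zp)

universe u

/-! ### Characters -/

theorem sq_le {G : Type u} [Group G] [Finite G] (χ : IrrCharacter G) (g : G) {c : ℤ} (hc : (χ : G → ℂ) g = c) :
    c ^ 2 ≤ (Nat.card (centralizer ({g} : Set G)) : ℤ) := by
  classical
  have := finite_irr (G := G)
  have := Fintype.ofFinite (IrrCharacter G)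
  have h4 := SmallSimple.SelfCentSum.sum_norm_sq g
  have h5 : ‖(χ : G → ℂ) g‖ ^ 2 ≤ ∑ χ : IrrCharacter G, ‖(χ : G → ℂ) g‖ ^ 2 :=
    Finset.single_le_sum (f := fun χ : IrrCharacter G => ‖(χ : G → ℂ) g‖ ^ 2) (fun _ _ => sq_nonneg _)
      (Finset.mem_univ χ)
  rw [h4, hc, Complex.norm_intCast, sq_abs] at h5
  exact_mod_cast h5

/-! ### The coset `k ⟨x⟩` -/

section coset

variable {G : Type} [Group G]

theorem exists_prime_part {x k : G} (hx : x ^ 3 = 1) (hkx : k * x = x * k) {r : ℕ} (hr : r % 3 = 2)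
    (hk : k ^ r = 1 ∨ k ^ r = x ∨ k ^ r = x⁻¹) (f : G → ℂ) : ∃ (k' : G) (i : ℕ), k' = k * x ^ i ∧ k' ^ r = 1 ∧
      k' * x = x * k' ∧ f k' + f (k' * x) + f (k' * x ^ 2) = f k + f (k * x) + f (k * x ^ 2) := by
  obtain ⟨m, hm⟩ : ∃ m, r + 1 = 3 * m := ⟨(r + 1) / 3, by omega⟩
  have hxr : x ^ (r + 1) = 1 := by rw [hm, pow_mul, hx, one_pow]
  have hc : Commute k x := hkx
  have h4 : x ^ 4 = x := by rw [pow_succ, hx, one_mul]
  have hinv : x⁻¹ = x ^ 2 := by
    rw [inv_eq_iff_mul_eq_one, ← pow_succ', hx]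
  rcases hk with h | h | h
  · exact ⟨k, 0, by rw [pow_zero, mul_one], h, hkx, rfl⟩
  · refine ⟨k * x, 1, by rw [pow_one], ?_, ?_, ?_⟩
    · rw [hc.mul_pow, h, ← pow_succ', hxr]
    · rw [mul_assoc, ← mul_assoc x, ← hkx, mul_assoc]
    · have e1 : k * x * x = k * x ^ 2 := by rw [mul_assoc, pow_two]
      have e2 : k * x * x ^ 2 = k := by rw [mul_assoc, ← pow_succ', hx, mul_one]
      rw [e1, e2]
      ring
  · refine ⟨k * x ^ 2, 2, rfl, ?_, ?_, ?_⟩
    · rw [(hc.pow_right 2).mul_pow, h, hinv, ← pow_mul, ← pow_add]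
      have : 2 + 2 * r = (r + 1) * 2 := by ring
      rw [this, pow_mul, hxr, one_pow]
    · have h1 : Commute (k * x ^ 2) x := hc.mul_left ((Commute.refl x).pow_left 2)
      exact h1
    · have e1 : k * x ^ 2 * x = k := by rw [mul_assoc, ← pow_succ, hx, mul_one]
      have e2 : k * x ^ 2 * x ^ 2 = k * x := by rw [mul_assoc, ← pow_add]; exact congrArg (k * ·) h4
      rw [e1, e2]
      ring

/-- the values at `k x`, `k x ^ 2` agree -/
theorem val_two [Finite G] {χ : G → ℂ} (hχ : IsCharacter G χ) (hr : RatV χ) {x k : G} (hx : x ^ 3 = 1)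
    (hkx : k * x = x * k) {r : ℕ} (hk : k ^ r = 1) (h3 : r % 3 = 2) (hm : Nat.Coprime (2 * r + 1) (3 * r)) :
    χ (k * x ^ 2) = χ (k * x) := by
  have hc : Commute k x := hkx
  have h1 : (k * x) ^ (2 * r + 1) = k * x ^ 2 := by
    obtain ⟨m, hm⟩ : ∃ m, 2 * r + 1 = 3 * m + 2 := ⟨(2 * r + 1) / 3, by omega⟩
    rw [hc.mul_pow]
    congr 1
    · rw [pow_succ, mul_comm, pow_mul, hk, one_pow, one_mul]
    · rw [hm, pow_add, pow_mul, hx, one_pow, one_mul]
  rw [← h1]
  refine Cfsg.Agent.H616.M23.val_pow hχ hr _ (hm.coprime_dvd_right ?_)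
  apply orderOf_dvd_of_pow_eq_one
  rw [hc.mul_pow, mul_comm 3 r, pow_mul, hk, one_pow, one_mul, mul_comm r 3, pow_mul, hx, one_pow]

/-- the integer `b` with `3 b = a + 2 c` -/
theorem exists_b {s : ℂ} (hs : IsIntegral ℤ s) {a c : ℤ} (h : 3 * s = a + c + c) : ∃ b : ℤ, s = b ∧ 3 * b = a + 2 * c := by
  have h1 : (3 : ℤ) ∣ a + 2 * c := by
    refine J3Type.CharTools.dvd_of_integral (p := 3) (by norm_num) hs ?_
    push_cast
    linear_combination -h
  obtain ⟨b, hb⟩ := h1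
  refine ⟨b, ?_, hb.symm⟩
  have h2 : ((a + 2 * c : ℤ) : ℂ) = ((3 * b : ℤ) : ℂ) := by rw [hb]
  push_cast at h2
  have h3 : (3 : ℂ) * s = 3 * b := by rw [h]; linear_combination h2
  exact mul_left_cancel₀ (by norm_num) h3

end coset

/-! ### The elements of order 23 of `Fi24'` -/

theorem self_y {X : Type u} [Group X] [Finite X] {q : ℕ} (hq : q.Prime) (hq2 : ¬ q ^ 2 ∣ Nat.card X)
    (h : ∃ y : X, orderOf y = q ∧ ∀ g : X, g * y = y * g → g ∈ zpowers y) {y : X} (hy : orderOf y = q) (g : X)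
    (hg : g * y = y * g) : g ∈ zpowers y := by
  obtain ⟨y1, hy1, hC⟩ := h
  obtain ⟨c, h1, h2⟩ := H241.Mon.conj_of_not_sq hq hq2 hy1 hy
  have h3 : Commute (c * g * c⁻¹) (c * y * c⁻¹) := by
    show c * g * c⁻¹ * (c * y * c⁻¹) = c * y * c⁻¹ * (c * g * c⁻¹)
    calc c * g * c⁻¹ * (c * y * c⁻¹) = c * (g * y) * c⁻¹ := by group
      _ = c * (y * g) * c⁻¹ := by rw [hg]
      _ = _ := by group
  obtain ⟨n, hn⟩ := h2
  have hn : (c * y * c⁻¹) ^ n = y1 := hn
  have h4 : (c * g * c⁻¹) * y1 = y1 * (c * g * c⁻¹) := by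
    rw [← hn]; exact (h3.zpow_right n).eq
  obtain ⟨m, hm⟩ := hC _ h4
  have hm : y1 ^ m = c * g * c⁻¹ := hm
  refine ⟨n * m, ?_⟩
  show y ^ (n * m) = g
  have h5 : c * y ^ (n * m) * c⁻¹ = c * g * c⁻¹ := by
    rw [← hm, ← hn, ← zpow_mul, conj_zpow]
  exact mul_left_cancel (mul_right_cancel h5)

/-! ### The Monster -/

section mon

variable {χ : IrrCharacter MG} (h1 : (χ : MG → ℂ) 1 = 196883) (hr : RatV (χ : MG → ℂ))

include h1 hr

theorem exists_val {k : MG} {r : ℕ} (hrp : r.Prime) (hk : k ^ r = 1) :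
    ∃ a : ℤ, (χ : MG → ℂ) k = a ∧ (r : ℤ) ∣ a - 196883 := by
  have := finite
  have hχ := isIrr_isCharacter χ.2
  obtain ⟨a, ha⟩ := Cfsg.Agent.H616.M23.exists_int hχ hr k
  refine ⟨a, ha, J3Type.CharTools.int_congr hχ k hrp ha (b := 196883) ?_⟩
  rw [hk, h1]
  norm_num

variable {x r : MG} {π : centralizer ({x} : Set MG) →* ↥(_root_.commutator Spor.Fi24)} (D : Data x r π)

include D

/-- **The value at an element of order 23 is odd or negative.** -/
theorem val23 (h3 : H715.Mon.Grp.SThree.{0}) {y : ↥(_root_.commutator Spor.Fi24)} (hy : orderOf y = 23) (k : centralizer ({x} : Set MG)) (hk : π k = y)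
    {s : ℂ} (hs0 : s = (3 : ℂ)⁻¹ * ((χ : MG → ℂ) k + ((χ : MG → ℂ) (k * x) + (χ : MG → ℂ) (k * (x * x)))))
    (hsI : IsIntegral ℤ s) : ∃ b : ℤ, s = b ∧ (Odd b ∨ b < 0) := by
  have hs : 3 * s = (χ : MG → ℂ) k + (χ : MG → ℂ) (k * x) + (χ : MG → ℂ) (k * x ^ 2) := by
    rw [hs0, pow_two]
    ring
  have := finite
  have hχ := isIrr_isCharacter χ.2
  have hx3 : x ^ 3 = 1 := by rw [← D.ord, pow_orderOf_eq_one]
  have hkx : (k : MG) * x = x * k := mem_centralizer_singleton_iff.1 k.2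
  have h2 : (k : MG) ^ 23 = 1 ∨ (k : MG) ^ 23 = x ∨ (k : MG) ^ 23 = x⁻¹ := by
    apply mem_zp D.ord
    have h3' := (D.ker (k ^ 23)).1 (by rw [map_pow, hk, ← hy, pow_orderOf_eq_one])
    exact_mod_cast h3'
  obtain ⟨k', i, hk', hkr, hkx', hf⟩ := exists_prime_part hx3 hkx (r := 23) (by norm_num) h2 (χ : MG → ℂ)
  have hxx : x ∈ centralizer ({x} : Set MG) := mem_centralizer_singleton_iff.2 rfl
  let X : centralizer ({x} : Set MG) := ⟨x, hxx⟩
  have hX : π X = 1 := (D.ker X).2 (mem_zpowers x)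
  let K : centralizer ({x} : Set MG) := k * X ^ i
  have hKk : (K : MG) = k' := by rw [hk']; rfl
  have hK : π K = y := by
    show π (k * X ^ i) = y
    rw [map_mul, map_pow, hX, one_pow, mul_one, hk]
  have hne : k' ≠ 1 := by
    intro h
    have h3' : K = 1 := Subtype.ext (hKk.trans h)
    rw [h3', map_one] at hK
    rw [← hK, orderOf_one] at hy
    norm_num at hy
  have : Fact (Nat.Prime 23) := ⟨by norm_num⟩
  have ho : orderOf k' = 23 := orderOf_eq_prime hkr hne
  obtain ⟨a, ha, hda⟩ := exists_val h1 hr (by norm_num) hkr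
  have hsq := sq_le χ k' ha
  have hcard : Nat.card (centralizer ({k'} : Set MG)) = 24 * 23 :=
    H715.Mon.Exact.card23 h3 ho
  rw [hcard] at hsq
  push_cast at hsq
  have ha2 : a = 3 ∨ a = -20 := by
    have h4 : a ≤ 23 := by nlinarith
    have h5 : -23 ≤ a := by nlinarith
    push_cast at hda
    omega
  obtain ⟨c, hc⟩ := Cfsg.Agent.H616.M23.exists_int hχ hr (k' * x)
  -- the centralizer of `k' x`
  have hcom : Commute k' x := hkx'
  have h69 : (k' * x) ^ 69 = 1 := by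
    have h4 : k' ^ 69 = 1 := by
      have : (69 : ℕ) = 23 * 3 := rfl
      rw [this, pow_mul, hkr, one_pow]
    have h5 : x ^ 69 = 1 := by
      have : (69 : ℕ) = 3 * 23 := rfl
      rw [this, pow_mul, hx3, one_pow]
    rw [hcom.mul_pow, h4, h5, one_mul]
  have hkx1 : (k' * x) ^ 24 = k' := by
    have h4 : k' ^ 24 = k' := by rw [pow_succ, hkr, one_mul]
    have h5 : x ^ 24 = 1 := by
      have : (24 : ℕ) = 3 * 8 := rfl
      rw [this, pow_mul, hx3, one_pow]
    rw [hcom.mul_pow, h4, h5, mul_one]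
  have hkx2 : (k' * x) ^ 46 = x := by
    have h4 : k' ^ 46 = 1 := by
      have : (46 : ℕ) = 23 * 2 := rfl
      rw [this, pow_mul, hkr, one_pow]
    have h5 : x ^ 46 = x := by
      have : (46 : ℕ) = 3 * 15 + 1 := rfl
      rw [this, pow_succ, pow_mul, hx3, one_pow, one_mul]
    rw [hcom.mul_pow, h4, h5, one_mul]
  have hle : centralizer ({k' * x} : Set MG) ≤ zpowers (k' * x) := by
    intro g hg
    have hg' : Commute g (k' * x) := mem_centralizer_singleton_iff.1 hg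
    have hgx : Commute g x := by rw [← hkx2]; exact hg'.pow_right 46
    have hgk : Commute g k' := by rw [← hkx1]; exact hg'.pow_right 24
    let g' : centralizer ({x} : Set MG) := ⟨g, mem_centralizer_singleton_iff.2 hgx⟩
    have h4 : g' * K = K * g' := by
      apply Subtype.ext
      show g * (K : MG) = (K : MG) * g
      rw [hKk]
      exact hgk
    have h5 : π g' * y = y * π g' := by rw [← hK, ← map_mul, h4, map_mul]
    have hcF : Nat.card ↥(_root_.commutator Spor.Fi24) = 1255205709190661721292800 :=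
      R08.FiTwentyFour.card_commutator
    have hfF : Finite ↥(_root_.commutator Spor.Fi24) := Nat.finite_of_card_ne_zero (by rw [hcF]; norm_num)
    obtain ⟨n, hn⟩ := self_y (q := 23) (by norm_num) (by rw [hcF]; norm_num) H241.Mon.fi23 hy (π g') h5
    have hn : y ^ n = π g' := hn
    have h6 : π (g' * (K ^ n)⁻¹) = 1 := by
      rw [map_mul, map_inv, map_zpow, hK, ← hn, mul_inv_cancel]
    have h7 : g * (k' ^ n)⁻¹ ∈ zpowers x := by
      have h8 := (D.ker _).1 h6
      have h9 : ((g' * (K ^ n)⁻¹ : centralizer ({x} : Set MG)) : MG) = g * (k' ^ n)⁻¹ := by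
        rw [← hKk]; rfl
      rwa [h9] at h8
    have h10 : zpowers x ≤ zpowers (k' * x) := by
      rw [zpowers_le]
      have h13 : (k' * x) ^ 46 ∈ zpowers (k' * x) := pow_mem (mem_zpowers _) 46
      rwa [hkx2] at h13
    have h11 : k' ∈ zpowers (k' * x) := by
      have h13 : (k' * x) ^ 24 ∈ zpowers (k' * x) := pow_mem (mem_zpowers _) 24
      rwa [hkx1] at h13
    have h12 : g = g * (k' ^ n)⁻¹ * k' ^ n := by group
    rw [h12]
    exact mul_mem (h10 h7) (zpow_mem h11 n)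
  have hcc : Nat.card (centralizer ({k' * x} : Set MG)) ≤ 69 := by
    refine (Subgroup.card_le_of_le hle).trans ?_
    rw [Nat.card_zpowers]
    exact Nat.le_of_dvd (by norm_num) (orderOf_dvd_of_pow_eq_one h69)
  have hcs := sq_le χ (k' * x) hc
  have hcc' : (Nat.card (centralizer ({k' * x} : Set MG)) : ℤ) ≤ 69 := by exact_mod_cast hcc
  have hc8 : c ≤ 8 := by nlinarith
  have hc2 := val_two hχ hr hx3 hkx' hkr (by norm_num) (by norm_num)
  rw [← hf, ha, hc2, hc] at hs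
  obtain ⟨b, hb, hb3⟩ := exists_b hsI hs
  refine ⟨b, hb, ?_⟩
  rcases ha2 with rfl | rfl
  · left
    rw [Int.odd_iff]
    omega
  · right
    omega

end mon

end Cfsg.Agent.H300.SB.Vals
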